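import Cfsg.Agent.H356.L34.Core

/-! # Data: fixed points of elements of order 3, 5, 7 on the exterior square of the hermitian matrices -/

set_option autoImplicit false
set_option maxRecDepth 100000

namespace Cfsg.Agent.H356.L34

/-- the pairs of basis vectors. -/
def PR : List (ℕ × ℕ) := [(0, 1), (0, 2), (0, 3), (0, 4), (0, 5), (1, 2), (0, 6), (0, 7), (1, 3),
  (1, 4), (1, 5), (2, 3), (2, 4), (2, 5), (0, 8), (1, 6), (1, 7), (2, 6), (2, 7), (3, 4), (3, 5),
  (4, 5), (1, 8), (2, 8), (3, 6), (3, 7), (4, 6), (4, 7), (5, 6), (5, 7), (3, 8), (4, 8), (5, 8),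
  (6, 7), (6, 8), (7, 8)]

/-- the exterior product of the basis vectors. -/
def WT : List (List ℕ) := [[0, 1, 2, 4, 8, 16, 64, 128, 16384], [1, 0, 32, 256, 512, 1024, 32768,
  65536, 4194304], [2, 32, 0, 2048, 4096, 8192, 131072, 262144, 8388608], [4, 256, 2048, 0,
  524288, 1048576, 16777216, 33554432, 1073741824], [8, 512, 4096, 524288, 0, 2097152, 67108864,
  134217728, 2147483648], [16, 1024, 8192, 1048576, 2097152, 0, 268435456, 536870912, 4294967296],
  [64, 32768, 131072, 16777216, 67108864, 268435456, 0, 8589934592, 17179869184], [128, 65536,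
  262144, 33554432, 134217728, 536870912, 8589934592, 0, 34359738368], [16384, 4194304, 8388608,
  1073741824, 2147483648, 4294967296, 17179869184, 34359738368, 0]]

/-- the exterior product of two bit vectors. -/
def wedge (x y : ℕ) : ℕ := ap (WT.map fun R => ap R y) x

/-- the exterior square of the columns `G`. -/
def lsq (G : List ℕ) : List ℕ := PR.map fun p => wedge (G.getD p.1 0) (G.getD p.2 0)

/-- the element of order 3 on the hermitian matrices. -/
def A3 : List ℕ := [1, 6, 2, 16, 24, 32, 192, 64, 256]

/-- the element of order 3 on the exterior square. -/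
def X3 : List ℕ := [3, 1, 8, 12, 16, 32, 192, 64, 4608, 6912, 9216, 512, 768, 1024, 16384, 491520,
  163840, 98304, 32768, 524288, 2097152, 3145728, 12582912, 4194304, 201326592, 67108864,
  251658240, 83886080, 805306368, 268435456, 2147483648, 3221225472, 4294967296, 8589934592,
  51539607552, 17179869184]

/-- fixed vectors. -/
def F3 : List ℕ := [16, 32, 2816, 4352, 16384, 196608, 360448, 524288, 117440512, 150994944,
  4294967296, 8589934592]

/-- coordinates of the fixed vectors. -/
def L3 : List ℕ := [0, 0, 0, 0, 1, 2, 0, 0, 0, 0, 0, 4, 8, 0, 16, 0, 0, 32, 64, 128, 0, 0, 0, 0,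
  0, 0, 256, 512, 0, 0, 0, 0, 1024, 2048, 0, 0]

/-- certificate. -/
def C3 : List ℕ := [3, 1, 8, 12, 0, 0, 192, 64, 0, 0, 9216, 768, 256, 1024, 0, 0, 0, 65536, 98304,
  0, 2097152, 3145728, 12582912, 4194304, 0, 0, 33554432, 50331648, 805306368, 268435456,
  2147483648, 3221225472, 0, 0, 51539607552, 17179869184]

/-- the element of order 5 on the hermitian matrices. -/
def A5 : List ℕ := [32, 34, 6, 64, 128, 39, 136, 208, 256]

/-- the element of order 5 on the exterior square. -/
def X5 : List ℕ := [1024, 9216, 268435456, 536870912, 9232, 9248, 537919488, 807403520, 268468224,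
  536936448, 8241, 163840, 327680, 9219, 4294967296, 537985280, 807502336, 329984, 496128,
  8589934592, 268599360, 537198720, 4299161600, 12582912, 8606711808, 8657043456, 33554432,
  8724152320, 538249604, 807899848, 17179869184, 34359738368, 4307566592, 8775008256, 35433480192,
  53687091200]

/-- fixed vectors. -/
def F5 : List ℕ := [48, 8211, 1448768, 2230656, 117440512, 150994944, 268802180, 537299144]

/-- coordinates of the fixed vectors. -/
def L5 : List ℕ := [0, 0, 0, 0, 0, 1, 0, 0, 0, 0, 0, 0, 0, 2, 0, 0, 0, 0, 0, 0, 4, 8, 0, 0, 0, 0,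
  16, 32, 64, 128, 0, 0, 0, 0, 0, 0]

/-- certificate. -/
def C5 : List ℕ := [0, 18, 0, 0, 0, 1040, 0, 0, 99016, 33612, 1, 398092, 137476, 17, 4210688,
  99276, 33092, 497856, 165952, 17301504, 72, 140, 8388608, 4307566592, 0, 0, 50331648,
  8607236096, 4, 8, 53687091200, 20401094656, 4194304, 16777216, 54760833024, 18253611008]

/-- the element of order 7 on the hermitian matrices. -/
def A7 : List ℕ := [32, 64, 128, 2, 38, 256, 72, 216, 35]

/-- the element of order 7 on the exterior square. -/
def X7 : List ℕ := [268435456, 536870912, 1024, 9216, 4294967296, 8589934592, 269484032,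
  808452096, 32768, 268599296, 17179869184, 65536, 537198592, 34359738368, 1040, 16777216,
  8673820672, 8623489024, 8757706752, 1056, 4194304, 4307550208, 268468288, 536936576, 33024,
  99072, 269650176, 808950528, 18253611008, 54760833024, 1025, 8243, 4299177984, 8691122176,
  269517124, 808551372]

/-- fixed vectors. -/
def F7 : List ℕ := [22053184, 1342178305, 3001164787, 12963170736, 17179870532, 34465884556]

/-- coordinates of the fixed vectors. -/
def L7 : List ℕ := [0, 0, 0, 0, 0, 0, 0, 0, 0, 0, 0, 0, 0, 0, 0, 0, 0, 0, 0, 0, 0, 0, 0, 0, 1, 0,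
  0, 0, 0, 0, 2, 4, 0, 8, 16, 32]

/-- certificate. -/
def C7 : List ℕ := [0, 0, 0, 0, 0, 48366576, 4296032325, 0, 5243200, 4411607252, 4, 11536529,
  4545954132, 12, 16388, 5242944, 11534481, 4406364821, 4534424007, 48890868, 4296032260,
  4296032391, 4294983684, 3145875, 5275712, 4366518597, 33784577, 148904786, 1, 2, 268436485,
  805314575, 16, 48366544, 1028, 8204]

/-- exponents of the table `WT`. -/
def WTe : List (List (Option ℕ)) := [[none, some 0, some 1, some 2, some 3, some 4, some 6, some
  7, some 14], [some 0, none, some 5, some 8, some 9, some 10, some 15, some 16, some 22], [some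
  1, some 5, none, some 11, some 12, some 13, some 17, some 18, some 23], [some 2, some 8, some
  11, none, some 19, some 20, some 24, some 25, some 30], [some 3, some 9, some 12, some 19, none,
  some 21, some 26, some 27, some 31], [some 4, some 10, some 13, some 20, some 21, none, some 28,
  some 29, some 32], [some 6, some 15, some 17, some 24, some 26, some 28, none, some 33, some
  34], [some 7, some 16, some 18, some 25, some 27, some 29, some 33, none, some 35], [some 14,
  some 22, some 23, some 30, some 31, some 32, some 34, some 35, none]]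

theorem WT_eq : WT = WTe.map fun R => R.map fun o => match o with
    | none => 0
    | some i => 2 ^ i := by decide +kernel

/-- the certificate. -/
def Good (X F L C : List ℕ) (k : ℕ) : Prop :=
  X.length = 36 ∧ L.length = 36 ∧ C.length = 36 ∧ F.length = k ∧ (∀ x ∈ X, x < 2 ^ 36) ∧
    (∀ x ∈ F, x < 2 ^ 36) ∧ (∀ x ∈ L, x < 2 ^ k) ∧
    F.map (ap X) = F ∧ xl ((xl X (idl 36 0)).map (ap C)) (L.map (ap F)) = idl 36 0 ∧
    F.map (ap L) = idl k 0

instance (X F L C : List ℕ) (k : ℕ) : Decidable (Good X F L C k) := by unfold Good; infer_instance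

theorem X3_eq : lsq A3 = X3 := by decide +kernel

theorem X5_eq : lsq A5 = X5 := by decide +kernel

theorem X7_eq : lsq A7 = X7 := by decide +kernel

theorem good3 : Good X3 F3 L3 C3 12 := by decide +kernel

theorem good5 : Good X5 F5 L5 C5 8 := by decide +kernel

theorem good7 : Good X7 F7 L7 C7 6 := by decide +kernel

end Cfsg.Agent.H356.L34
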