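import Cfsg.Agent.H356.L34.Herm
import Cfsg.Agent.H288.L34.BrkDef

/-! # Dimensions of fixed spaces on the embedded exterior square (S5917, row M8) -/

set_option autoImplicit false

namespace Cfsg.Agent.H356.L34

open Matrix Cfsg.Agent.H691.L34 Cfsg.Agent.H288.L34

variable {F : Type} [Field F] {V : Type} [AddCommGroup V] [Module (ZMod 2) V]

theorem add_self2 (v : V) : v + v = 0 := by
  have h : ((2 : ZMod 2)) • v = 0 := by
    rw [show (2 : ZMod 2) = 0 by decide, zero_smul]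
  rwa [two_smul] at h

theorem lx_mem {S : Submodule (ZMod 2) V} (L : List V) (hL : ∀ c ∈ L, c ∈ S) (x : ℕ) :
    lx L x ∈ S := by
  induction L generalizing x with
  | nil => exact S.zero_mem
  | cons c L ih =>
    simp only [lx]
    refine S.add_mem ?_ (ih (fun c hc => hL c (List.mem_cons_of_mem _ hc)) _)
    split_ifs
    · exact hL c List.mem_cons_self
    · exact S.zero_mem

theorem wedge_lt (x y : ℕ) : wedge x y < 2 ^ 36 := by
  have h : ∀ R ∈ WT, ∀ c ∈ R, c < 2 ^ 36 := by decide +kernel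
  refine ap_bound _ 36 ?_ _
  intro c hc
  obtain ⟨R, hR, rfl⟩ := List.mem_map.1 hc
  exact ap_bound R 36 (h R hR) _

/-- the set of combinations is the span. -/
theorem mem_bsp [Fintype F] (hF : Fintype.card F = 4) {w : F} (hw : w ^ 2 + w + 1 = 0)
    {β : V →ₗ[ZMod 2] V →ₗ[ZMod 2] V} (halt : ∀ x, β x x = 0)
    {W : Submodule (ZMod 2) V} {φ : M3 F → V}
    (h1 : ∀ X Y, HF X → HF Y → φ (X + Y) = φ X + φ Y) (h2 : ∀ v, v ∈ W ↔ ∃ X, HF X ∧ φ X = v)
    (v : V) : v ∈ bsp β W ↔ ∃ x < 2 ^ 36, lx (wl (fun u v => β u v) ((BL w).map φ)) x = v := by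
  let β' : V →+ V →+ V := AddMonoidHom.mk' (fun u => (β u).toAddMonoidHom) (by
    intro a b; ext c; simp)
  have hβ' : ∀ u v, β' u v = β u v := fun u v => rfl
  have hlen : ((BL w).map φ).length = 9 := by simp [BL]
  constructor
  · intro hv
    refine Submodule.span_induction (p := fun v _ => ∃ x < 2 ^ 36,
      lx (wl (fun u v => β u v) ((BL w).map φ)) x = v) ?_ ?_ ?_ ?_ hv
    · rintro _ ⟨a, ha, b, hb, rfl⟩
      obtain ⟨X, hX, rfl⟩ := (h2 a).1 ha
      obtain ⟨Y, hY, rfl⟩ := (h2 b).1 hb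
      obtain ⟨x, hx, rfl⟩ := code hF hw hX
      obtain ⟨y, hy, rfl⟩ := code hF hw hY
      rw [phi_lx hF h1 _ (HF_BL hF w), phi_lx hF h1 _ (HF_BL hF w)]
      refine ⟨wedge x y, wedge_lt x y, ?_⟩
      have := br_lx add_self2 β' halt ((BL w).map φ) hlen x y
      exact this.symm
    · exact ⟨0, by norm_num, lx_zero _⟩
    · rintro _ _ _ _ ⟨x, hx, rfl⟩ ⟨y, hy, rfl⟩
      exact ⟨x ^^^ y, Nat.xor_lt_two_pow hx hy, lx_xor add_self2 _ _ _⟩
    · rintro c _ _ ⟨x, hx, rfl⟩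
      have hc : c = 0 ∨ c = 1 := by revert c; decide
      rcases hc with rfl | rfl
      · exact ⟨0, by norm_num, by rw [lx_zero, zero_smul]⟩
      · exact ⟨x, hx, by rw [one_smul]⟩
  · rintro ⟨x, hx, rfl⟩
    apply lx_mem
    intro c hc
    obtain ⟨p, hp, rfl⟩ := List.mem_map.1 hc
    have hm : ∀ i, ((BL w).map φ).getD i 0 ∈ W := by
      intro i
      refine getD_mem (fun v => v ∈ W) 0 W.zero_mem _ ?_ i
      intro c hc
      obtain ⟨X, hX, rfl⟩ := List.mem_map.1 hc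
      exact (h2 _).2 ⟨X, HF_BL hF w X hX, rfl⟩
    exact Submodule.subset_span ⟨_, hm _, _, hm _, rfl⟩

/-- the exterior square is embedded. -/
theorem inj_of_finrank [Fintype F] (hF : Fintype.card F = 4) {w : F} (hw : w ^ 2 + w + 1 = 0)
    {β : V →ₗ[ZMod 2] V →ₗ[ZMod 2] V} (halt : ∀ x, β x x = 0)
    {W : Submodule (ZMod 2) V} {φ : M3 F → V}
    (h1 : ∀ X Y, HF X → HF Y → φ (X + Y) = φ X + φ Y) (h2 : ∀ v, v ∈ W ↔ ∃ X, HF X ∧ φ X = v)
    (h : 36 ≤ Module.finrank (ZMod 2) (bsp β W)) :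
    (∀ x < 2 ^ 36, lx (wl (fun u v => β u v) ((BL w).map φ)) x = 0 → x = 0) ∧
      Module.finrank (ZMod 2) (bsp β W) = 36 := by
  set m := wl (fun u v => β u v) ((BL w).map φ) with hm
  have hb := mem_bsp hF hw halt h1 h2
  let f : Fin (2 ^ 36) → bsp β W := fun x => ⟨lx m x, (hb _).2 ⟨x, x.2, rfl⟩⟩
  have hf : Function.Surjective f := by
    rintro ⟨v, hv⟩
    obtain ⟨x, hx, rfl⟩ := (hb v).1 hv
    exact ⟨⟨x, hx⟩, rfl⟩
  have : Finite (bsp β W) := Finite.of_surjective f hf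
  have hcard : Nat.card (bsp β W) = 2 ^ Module.finrank (ZMod 2) (bsp β W) := by
    rw [Module.natCard_eq_pow_finrank (K := ZMod 2), Nat.card_zmod]
  have hle : Nat.card (bsp β W) ≤ 2 ^ 36 := by
    have := Nat.card_le_card_of_surjective f hf
    rwa [Nat.card_eq_fintype_card (α := Fin (2 ^ 36)), Fintype.card_fin] at this
  have hfr : Module.finrank (ZMod 2) (bsp β W) = 36 := by
    rw [hcard] at hle
    have := (Nat.pow_le_pow_iff_right (by norm_num : 1 < 2)).1 hle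
    omega
  rw [hfr] at hcard
  have hbij : Function.Bijective f := by
    rw [Nat.bijective_iff_surjective_and_card]
    exact ⟨hf, by rw [hcard, Nat.card_eq_fintype_card, Fintype.card_fin]⟩
  refine ⟨?_, hfr⟩
  intro x hx h0
  have : f ⟨x, hx⟩ = f ⟨0, by norm_num⟩ := by
    apply Subtype.ext
    show lx m x = lx m 0
    rw [h0, lx_zero]
  have := hbij.1 this
  exact congrArg Fin.val this

/-- the fixed space of an element with explicit columns. -/
theorem fx_explicit [Fintype F] (hF : Fintype.card F = 4) {w : F} (hw : w ^ 2 + w + 1 = 0)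
    {ρ : Representation (ZMod 2) (G3 F) V}
    {β : V →ₗ[ZMod 2] V →ₗ[ZMod 2] V} (hβ : Brk ρ β)
    {W : Submodule (ZMod 2) V} {φ : M3 F → V}
    (h1 : ∀ X Y, HF X → HF Y → φ (X + Y) = φ X + φ Y) (h2 : ∀ v, v ∈ W ↔ ∃ X, HF X ∧ φ X = v)
    (h : 36 ≤ Module.finrank (ZMod 2) (bsp β W)) (g g' : G3 F)
    (h3 : ∀ X, HF X → ρ g (φ X) = φ (hact g' X)) {A X FF L C : List ℕ} {k : ℕ}
    (hA : (BL w).map (hact g') = A.map (lx (BL w))) (hX : lsq A = X) (hg : Good X FF L C k) :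
    Module.finrank (ZMod 2) (fx ρ g (bsp β W)) = k := by
  obtain ⟨hinj, hfr⟩ := inj_of_finrank hF hw hβ.alt h1 h2 h
  have hb := mem_bsp hF hw hβ.alt h1 h2
  let β' : V →+ V →+ V := AddMonoidHom.mk' (fun u => (β u).toAddMonoidHom) (by
    intro a b; ext c; simp)
  have hlen : ((BL w).map φ).length = 9 := by simp [BL]
  let T : V →+ V := (ρ g).toAddMonoidHom
  have hTb : ((BL w).map φ).map T = A.map (lx ((BL w).map φ)) := by
    have e1 : ((BL w).map φ).map T = ((BL w).map (hact g')).map φ := by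
      rw [List.map_map, List.map_map]
      apply List.map_congr_left
      intro X hX
      exact h3 X (HF_BL hF w X hX)
    rw [e1, hA, List.map_map]
    apply List.map_congr_left
    intro a _
    exact phi_lx hF h1 _ (HF_BL hF w) a
  have hTm := wl_act add_self2 β' hβ.alt T (fun u v => hβ.inv g u v) ((BL w).map φ) hlen A hTb
  rw [hX] at hTm
  have hc := fix_card add_self2 (wl (fun u v => β' u v) ((BL w).map φ)) hinj T hg hTm
  have hcard : Nat.card (fx ρ g (bsp β W)) = 2 ^ k := by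
    rw [← hc]
    refine Nat.card_congr (Equiv.subtypeEquivRight ?_)
    intro v
    show v ∈ bsp β W ⊓ LinearMap.ker (ρ g - LinearMap.id) ↔ _
    rw [Submodule.mem_inf, hb v, LinearMap.mem_ker, LinearMap.sub_apply, LinearMap.id_apply,
      sub_eq_zero]
    rfl
  have : Finite (fx ρ g (bsp β W)) := Nat.finite_of_card_ne_zero (by rw [hcard]; positivity)
  rw [Module.natCard_eq_pow_finrank (K := ZMod 2), Nat.card_zmod] at hcard
  exact Nat.pow_right_injective (le_refl 2) hcard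

theorem inv_bsp {ρ : Representation (ZMod 2) (G3 F) V}
    {β : V →ₗ[ZMod 2] V →ₗ[ZMod 2] V} (hβ : Brk ρ β)
    {W : Submodule (ZMod 2) V} (hW : Inv ρ W) : Inv ρ (bsp β W) := by
  intro g v hv
  have h : bsp β W ≤ (bsp β W).comap (ρ g) := by
    refine Submodule.span_le.2 ?_
    rintro _ ⟨x, hx, y, hy, rfl⟩
    show ρ g (β x y) ∈ bsp β W
    rw [hβ.inv]
    exact Submodule.subset_span ⟨_, hW g x hx, _, hW g y hy, rfl⟩
  exact h hv

theorem fx_conj {ρ : Representation (ZMod 2) (G3 F) V} {M : Submodule (ZMod 2) V}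
    (hM : Inv ρ M) (k g : G3 F) :
    Module.finrank (ZMod 2) (fx ρ (k * g * k⁻¹) M) = Module.finrank (ZMod 2) (fx ρ g M) := by
  have hmem : ∀ (a : G3 F) (v : V), v ∈ fx ρ a M ↔ v ∈ M ∧ ρ a v = v := by
    intro a v
    show v ∈ M ⊓ LinearMap.ker (ρ a - LinearMap.id) ↔ _
    rw [Submodule.mem_inf, LinearMap.mem_ker, LinearMap.sub_apply, LinearMap.id_apply,
      sub_eq_zero]
  have hmul : ∀ (a b : G3 F) (v : V), ρ (a * b) v = ρ a (ρ b v) := fun a b v => by
    rw [map_mul]; rfl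
  have hone : ∀ v : V, ρ (1 : G3 F) v = v := fun v => by rw [map_one]; rfl
  let e : V ≃ₗ[ZMod 2] V := LinearEquiv.ofLinearMap (ρ k) (ρ k⁻¹)
    (by ext v; show ρ k (ρ k⁻¹ v) = v; rw [← hmul, mul_inv_cancel, hone])
    (by ext v; show ρ k⁻¹ (ρ k v) = v; rw [← hmul, inv_mul_cancel, hone])
  have hmap : fx ρ (k * g * k⁻¹) M = (fx ρ g M).map (e : V →ₗ[ZMod 2] V) := by
    ext v
    rw [Submodule.mem_map, hmem]
    constructor
    · rintro ⟨hv, hfix⟩
      refine ⟨ρ k⁻¹ v, (hmem _ _).2 ⟨hM _ _ hv, ?_⟩, ?_⟩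
      · have := congrArg (ρ k⁻¹) hfix
        rw [← hmul] at this
        rw [← hmul, ← this]
        congr 2
        group
      · show ρ k (ρ k⁻¹ v) = v
        rw [← hmul, mul_inv_cancel, hone]
    · rintro ⟨u, hu, rfl⟩
      obtain ⟨hu1, hu2⟩ := (hmem _ _).1 hu
      refine ⟨hM k u hu1, ?_⟩
      show ρ (k * g * k⁻¹) (ρ k u) = ρ k u
      rw [← hmul, show k * g * k⁻¹ * k = k * g by group, hmul, hu2]
  rw [hmap]
  exact LinearEquiv.finrank_map_eq e _

theorem fx_pow_le {ρ : Representation (ZMod 2) (G3 F) V} {M : Submodule (ZMod 2) V}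
    (g : G3 F) (n : ℕ) : fx ρ g M ≤ fx ρ (g ^ n) M := by
  have hmem : ∀ (a : G3 F) (v : V), v ∈ fx ρ a M ↔ v ∈ M ∧ ρ a v = v := by
    intro a v
    show v ∈ M ⊓ LinearMap.ker (ρ a - LinearMap.id) ↔ _
    rw [Submodule.mem_inf, LinearMap.mem_ker, LinearMap.sub_apply, LinearMap.id_apply,
      sub_eq_zero]
  intro v hv
  obtain ⟨hv1, hv2⟩ := (hmem _ _).1 hv
  refine (hmem _ _).2 ⟨hv1, ?_⟩
  induction n with
  | zero => rw [pow_zero, map_one]; rfl
  | succ n ih =>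
    rw [pow_succ, map_mul]
    show ρ (g ^ n) (ρ g v) = v
    rw [hv2, ih]

theorem fx_transfer {ρ : Representation (ZMod 2) (G3 F) V} {M : Submodule (ZMod 2) V}
    (hM : Inv ρ M) {g k y : G3 F} {m n : ℕ} (h : k * g * k⁻¹ = y ^ m) (h' : (k * g * k⁻¹) ^ n = y) :
    Module.finrank (ZMod 2) (fx ρ g M) = Module.finrank (ZMod 2) (fx ρ y M) := by
  have e : fx ρ (k * g * k⁻¹) M = fx ρ y M := by
    apply le_antisymm
    · have := fx_pow_le (ρ := ρ) (M := M) (k * g * k⁻¹) n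
      rwa [h'] at this
    · have := fx_pow_le (ρ := ρ) (M := M) y m
      rwa [← h] at this
  rw [← fx_conj hM k g, e]

theorem it_it (g : G3 F) : it (it g) = g := by
  apply Subtype.ext
  show ((it g)⁻¹ : G3 F).1.transpose = g.1
  rw [← map_inv]
  show (((g⁻¹)⁻¹ : G3 F).1.transpose).transpose = g.1
  rw [inv_inv, Matrix.transpose_transpose]

theorem tw_tw (b : Bool) (g : G3 F) : tw b (tw b g) = g := by
  cases b
  · rfl
  · exact it_it g

/-- (I-Lc), first part : the dimensions of the embedded exterior square. -/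
theorem lam_dims_of [Fintype F] (hF : Fintype.card F = 4)
    (cls3 : ∀ {w : F}, w ^ 2 + w + 1 = 0 → ∀ g : G3 F, orderOf g = 3 →
      g ∉ Subgroup.center (G3 F) → ∃ k : G3 F, (k * g * k⁻¹).1 = !![1, 0, 0; 0, w, 0; 0, 0, w ^ 2])
    (cls5 : ∀ {w : F}, w ^ 2 + w + 1 = 0 → ∀ g : G3 F, orderOf g = 5 →
      ∃ (k y : G3 F) (m : ℕ), y.1 = !![0, 1, 0; 1, w, 0; 0, 0, 1] ∧ k * g * k⁻¹ = y ^ m ∧
        ∃ n : ℕ, (k * g * k⁻¹) ^ n = y)
    (cls7 : ∀ g : G3 F, orderOf g = 7 →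
      ∃ (k y : G3 F) (m : ℕ), y.1 = !![0, 0, 1; 1, 0, 1; 0, 1, 0] ∧ k * g * k⁻¹ = y ^ m ∧
        ∃ n : ℕ, (k * g * k⁻¹) ^ n = y)
    {ρ : Representation (ZMod 2) (G3 F) V}
    {β : V →ₗ[ZMod 2] V →ₗ[ZMod 2] V} (hβ : Brk ρ β) {b : Bool}
    {W : Submodule (ZMod 2) V} (hW : IsNine ρ b W)
    (h : 36 ≤ Module.finrank (ZMod 2) (bsp β W)) : Dims ρ (bsp β W) 36 12 8 6 := by
  obtain ⟨w, hw⟩ := exists_w hF
  have h20 := two_zero hF
  obtain ⟨φ, h1, _, h2, h3⟩ := hW
  have hWinv : Inv ρ W := by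
    intro g v hv
    obtain ⟨X, hX, rfl⟩ := (h2 v).1 hv
    rw [h3 g X hX]
    refine (h2 _).2 ⟨_, ?_, rfl⟩
    show ct _ = _
    have e := hX
    have ctct : ∀ Y : M3 F, ct (ct Y) = Y := by
      intro Y
      ext i j
      simp only [ct, Matrix.transpose_apply, Matrix.map_apply]
      rw [← pow_mul]
      exact pow_four hF _
    have ctmul : ∀ Y Z : M3 F, ct (Y * Z) = ct Z * ct Y := by
      intro Y Z
      ext i j
      simp only [ct, Matrix.transpose_apply, Matrix.map_apply, Matrix.mul_apply,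
        Fin.sum_univ_three]
      linear_combination (Y j 0 * Z 0 i * (Y j 1 * Z 1 i) + Y j 0 * Z 0 i * (Y j 2 * Z 2 i) +
        Y j 1 * Z 1 i * (Y j 2 * Z 2 i)) * h20
    show ct ((tw b g).1 * X * ct (tw b g).1) = (tw b g).1 * X * ct (tw b g).1
    rw [ctmul, ctmul, ctct, e, Matrix.mul_assoc]
  have hM := inv_bsp hβ hWinv
  obtain ⟨-, hfr⟩ := inj_of_finrank hF hw hβ.alt h1 h2 h
  have hord : ∀ g : G3 F, orderOf (tw b g) = orderOf g := fun g =>
    orderOf_injective (tw b) (fun x y hxy => by rw [← tw_tw b x, hxy, tw_tw]) g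
  have hcen : ∀ g : G3 F, tw b g ∈ Subgroup.center (G3 F) → g ∈ Subgroup.center (G3 F) := by
    intro g hg
    rw [Subgroup.mem_center_iff] at hg ⊢
    intro x
    have := hg (tw b x)
    rw [← map_mul, ← map_mul] at this
    have := congrArg (tw b) this
    rwa [tw_tw, tw_tw] at this
  -- transport of the conjugating elements
  have h3' : ∀ (g' : G3 F) X, HF X → ρ (tw b g') (φ X) = φ (hact g' X) := by
    intro g' X hX
    rw [h3 _ X hX, tw_tw]
  have hback : ∀ (g k : G3 F), tw b (k * tw b g * k⁻¹) = tw b k * g * (tw b k)⁻¹ := by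
    intro g k
    rw [map_mul, map_mul, tw_tw, map_inv]
  refine ⟨hfr, ?_, ?_, ?_⟩
  · intro g hg hc
    obtain ⟨k, hk⟩ := cls3 hw (tw b g) ((hord g).trans hg) (fun hh => hc (hcen g hh))
    rw [← fx_conj hM (tw b k) g, ← hback]
    exact fx_explicit hF hw hβ h1 h2 h _ _ (h3' _) (hact_three hw h20 _ hk) X3_eq good3
  · intro g hg
    obtain ⟨k, y, m, hy, e1, n, e2⟩ := cls5 hw (tw b g) ((hord g).trans hg)
    have e1' := congrArg (tw b) e1
    have e2' := congrArg (tw b) e2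
    rw [hback, map_pow] at e1'
    rw [map_pow, hback] at e2'
    rw [fx_transfer hM e1' e2']
    exact fx_explicit hF hw hβ h1 h2 h _ _ (h3' _) (hact_five hw h20 _ hy) X5_eq good5
  · intro g hg
    obtain ⟨k, y, m, hy, e1, n, e2⟩ := cls7 (tw b g) ((hord g).trans hg)
    have e1' := congrArg (tw b) e1
    have e2' := congrArg (tw b) e2
    rw [hback, map_pow] at e1'
    rw [map_pow, hback] at e2'
    rw [fx_transfer hM e1' e2']
    exact fx_explicit hF hw hβ h1 h2 h _ _ (h3' _) (hact_seven hw h20 _ hy) X7_eq good7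

end Cfsg.Agent.H356.L34
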